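import Cfsg.Agent.GAL.Rows
import Cfsg.Agent.H149.S3527Core
import Cfsg.Agent.S0000

/-!
# S4617 / S4618: the rows and the classification give `AllBox` (helper20, GAL)
-/

set_option autoImplicit false

namespace Cfsg.Agent.GAL

open Cfsg

universe u

theorem allBox_of (h : BoxG) : AllBox.{u} := by
  intro S _ _ hS hc
  obtain ⟨H, _, _, ⟨φ⟩⟩ := H149.S3527Core.exists_type0 S
  have : IsSimpleGroup H := φ.symm.isSimpleGroup
  refine Box.congr φ (box_of_known h (fun h1 => hc ⟨⟨fun a b => ?_⟩⟩) (S0000.result (G := H)))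
  apply φ.injective
  rw [map_mul, map_mul]
  exact h1.is_comm.comm _ _

end Cfsg.Agent.GAL
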