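import Cfsg.Agent.TAB.Use.Defs
import Cfsg.Agent.H601.K4.Defs

/-!
# S4617 / S4618: the box of a simple group (helper20, GAL)

`S` is a finite nonabelian simple group, `Q` a Sylow 2-subgroup and `R` a 2-group of automorphisms of `S` which
contains the conjugations with the elements of `Q` (so `R` is a Sylow 2-subgroup of `X = S R`).

* `Frame Q R` : this situation;
* `DD Q R` : the elements of odd order of `S` which normalize `R` centralize `R` (that is `N_X(R) = R C_X(R)`);
* `FF R` : the `R`-invariant irreducible characters of odd degree in the principal 2-block are fixed by `σ`;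
* `Box S` : `DD Q R ↔ FF R` for all frames;
* `DG G`, `FG G` : the two sides of S4618 for an arbitrary finite group.
-/

set_option autoImplicit false

namespace Cfsg.Agent.GAL

open Cfsg Cfsg.Agent.H601.K4 Cfsg.Agent.TAB.Use Cfsg.Agent.ODD.Red

universe u

section

variable {S : Type u} [Group S]

/-- `R` is a 2-group of automorphisms which contains the conjugations with the elements of `Q` -/
structure Frame (Q : Sylow 2 S) (R : Subgroup (MulAut S)) : Prop where
  two : IsPGroup 2 R
  inn : ∀ q ∈ (Q : Subgroup S), MulAut.conj q ∈ R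

/-- the elements of odd order which normalize `R` centralize `R` -/
def DD (Q : Sylow 2 S) (R : Subgroup (MulAut S)) : Prop :=
  ∀ y : S, Odd (orderOf y) → (∀ r ∈ R, y⁻¹ * r y ∈ (Q : Subgroup S)) → ∀ r ∈ R, r y = y

/-- `θ` is invariant under `R` -/
def Inv (R : Subgroup (MulAut S)) (θ : S → ℂ) : Prop := ∀ r ∈ R, ∀ s : S, θ (r s) = θ s

/-- the `R`-invariant irreducible characters of odd degree in the principal 2-block are fixed by `σ` -/
def FF (R : Subgroup (MulAut S)) : Prop :=
  ∀ θ : S → ℂ, OddIrr θ → InB0 θ → Inv R θ → ∀ σ, Sig σ → Fix σ θ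

end

/-- **the box of a simple group** -/
def Box (S : Type u) [Group S] : Prop :=
  ∀ (Q : Sylow 2 S) (R : Subgroup (MulAut S)), Frame Q R → (DD Q R ↔ FF R)

/-- the elements of odd order which normalize the Sylow 2-subgroup `P` centralize it -/
def DG {G : Type u} [Group G] (P : Sylow 2 G) : Prop :=
  ∀ y ∈ Subgroup.normalizer ((P : Subgroup G) : Set G), Odd (orderOf y) →
    y ∈ Subgroup.centralizer ((P : Subgroup G) : Set G)

/-- the irreducible characters of odd degree in the principal 2-block are fixed by `σ` -/
def FG (G : Type u) [Group G] : Prop :=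
  ∀ χ : G → ℂ, OddIrr χ → InB0 χ → ∀ σ, Sig σ → Fix σ χ

/-- the boxes of all nonabelian simple groups -/
def AllBox : Prop :=
  ∀ (S : Type u) [Group S] [Finite S], IsSimpleGroup S → ¬ IsMulCommutative S → Box S

end Cfsg.Agent.GAL
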