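import Cfsg.Agent.GAL.Defs
import Cfsg.Agent.TAB.Use.Main
import Cfsg.Agent.H618.Sigma
import Cfsg.Agent.H700.PRatExt
import Cfsg.Agent.H740.K4.Four
import Cfsg.Agent.Blocks.ExistsModular

/-!
# S4617 / S4618: tools for the boxes (helper20, GAL)

* `exists_sig`, `fix_iff_pow`, `fix_of_fix` : the automorphism `σ`;
* `inB0_iff`, `inB0_of_le` : the principal block and the centralizer of a Sylow 2-subgroup;
* `Box.congr`, `box_of_dg`, `box_of_self`, `box_of_cases`, `box_of_inner`, `ff_of_aut`, `not_fg_of_moved`.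
-/

set_option autoImplicit false

namespace Cfsg.Agent.GAL

open Cfsg Cfsg.Agent.H601.K4 Cfsg.Agent.TAB.Use Cfsg.Agent.ODD.Red Cfsg.Agent.Characters
open Cfsg.Agent.Characters.Core Cfsg.Agent.Blocks.Local Subgroup

universe u v

theorem fact2 : Fact (Nat.Prime 2) := ⟨Nat.prime_two⟩

theorem odd_iff' {n : ℕ} : Odd n ↔ ¬ 2 ∣ n := H618.Sigma.odd_iff

theorem isClosed_apply {K : Type*} [Field K] [Algebra ℚ K] [Algebra.IsIntegral ℚ K] (x y : K) :
    IsClosed {f : K ≃ₐ[ℚ] K | f x = y} := by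
  rw [← isOpen_compl_iff, isOpen_iff_mem_nhds]
  intro f hf
  have h1 : IsOpen ((fun g : K ≃ₐ[ℚ] K => f⁻¹ * g) ⁻¹' (MulAction.stabilizer (K ≃ₐ[ℚ] K) x : Set (K ≃ₐ[ℚ] K))) :=
    (stabilizer_isOpen_of_isIntegral x).preimage (continuous_const.mul continuous_id)
  refine Filter.mem_of_superset (h1.mem_nhds ?_) ?_
  · show f⁻¹ * f ∈ MulAction.stabilizer (K ≃ₐ[ℚ] K) x
    rw [inv_mul_cancel]
    exact one_mem _
  · intro g hg h
    apply hf
    have h2 : f⁻¹ (g x) = x := hg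
    have h3 : g x = y := h
    show f x = y
    rw [← h2, h3]
    exact f.apply_symm_apply y

/-- a suitable exponent -/
theorem exists_exp (a b : ℕ) (hb : Odd b) : ∃ k : ℕ, k.Coprime (2 ^ a * b) ∧ k ≡ 1 [MOD 2 ^ a] ∧ k ≡ 2 [MOD b] := by
  have hc : Nat.Coprime (2 ^ a) b := (Nat.coprime_two_left.2 hb).pow_left a
  obtain ⟨k, h1, h2⟩ := Nat.chineseRemainder hc 1 2
  refine ⟨k, Nat.Coprime.mul_right ?_ ?_, h1, h2⟩
  · have := h1.gcd_eq
    rw [Nat.gcd_one_left] at this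
    exact this
  · have := h2.gcd_eq
    rw [Nat.coprime_two_left.2 hb] at this
    exact this

/-- there is an automorphism of the field which fixes the roots of unity of `2`-power order and squares those of odd
order -/
theorem exists_sig : ∃ σ : ℂ ≃+* ℂ, Sig σ := by
  let K := algebraicClosure ℚ ℂ
  have : IsAlgClosure ℚ K := algebraicClosure.isAlgClosure ℚ ℂ
  have : Normal ℚ K := IsAlgClosure.normal ℚ K
  have : IsGalois ℚ K := ⟨⟩
  let C : ℕ × {b : ℕ // Odd b} → Set (K ≃ₐ[ℚ] K) := fun i =>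
    {f | (∀ z : K, z ^ 2 ^ i.1 = 1 → f z = z) ∧ ∀ z : K, z ^ i.2.1 = 1 → f z = z ^ 2}
  have hcl : ∀ i, IsClosed (C i) := by
    intro i
    have h1 : C i = (⋂ z : {z : K // z ^ 2 ^ i.1 = 1}, {f : K ≃ₐ[ℚ] K | f z.1 = z.1}) ∩
        ⋂ z : {z : K // z ^ i.2.1 = 1}, {f : K ≃ₐ[ℚ] K | f z.1 = z.1 ^ 2} := by
      ext f
      simp only [C, Set.mem_ofPred_eq, Set.mem_inter_iff, Set.mem_iInter, Subtype.forall]
    rw [h1]
    exact (isClosed_iInter fun z => isClosed_apply _ _).inter (isClosed_iInter fun z => isClosed_apply _ _)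
  have hne : ∀ i, (C i).Nonempty := by
    rintro ⟨a, b, hb⟩
    obtain ⟨k, hk, h1, h2⟩ := exists_exp a b hb
    obtain ⟨σ, hσ⟩ := GaloisBasic.exists_ringEquiv_pow (n := 2 ^ a * b)
      (mul_ne_zero (pow_ne_zero _ two_ne_zero) hb.pos.ne') hk
    let τ : ℂ ≃ₐ[ℚ] ℂ := AlgEquiv.ofRingEquiv (f := σ) (fun q => by simp)
    refine ⟨τ.restrictNormal K, fun z hz => ?_, fun z hz => ?_⟩
    · apply (algebraMap K ℂ).injective
      rw [AlgEquiv.restrictNormal_commutes]
      have h3 : (algebraMap K ℂ z) ^ 2 ^ a = 1 := by rw [← map_pow, hz, map_one]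
      show σ _ = _
      rw [hσ _ (by rw [pow_mul, h3, one_pow]), pow_eq_pow_of_modEq h1 h3, pow_one]
    · apply (algebraMap K ℂ).injective
      rw [AlgEquiv.restrictNormal_commutes]
      have h3 : (algebraMap K ℂ z) ^ b = 1 := by rw [← map_pow, hz, map_one]
      show σ _ = _
      rw [hσ _ (by rw [mul_comm, pow_mul, h3, one_pow]), pow_eq_pow_of_modEq h2 h3, map_pow]
  have hdir : Directed (· ⊇ ·) C := by
    rintro ⟨a, b, hb⟩ ⟨a', b', hb'⟩
    refine ⟨⟨a + a', b * b', hb.mul hb'⟩, fun f hf => ⟨fun z hz => hf.1 z ?_, fun z hz => hf.2 z ?_⟩,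
      fun f hf => ⟨fun z hz => hf.1 z ?_, fun z hz => hf.2 z ?_⟩⟩
    · show z ^ 2 ^ (a + a') = 1
      rw [pow_add, pow_mul, hz, one_pow]
    · show z ^ (b * b') = 1
      rw [pow_mul, hz, one_pow]
    · show z ^ 2 ^ (a + a') = 1
      rw [add_comm, pow_add, pow_mul, hz, one_pow]
    · show z ^ (b * b') = 1
      rw [mul_comm, pow_mul, hz, one_pow]
  have : Nonempty (ℕ × {b : ℕ // Odd b}) := ⟨⟨0, 1, odd_one⟩⟩
  obtain ⟨f, hf⟩ := IsCompact.nonempty_iInter_of_directed_nonempty_isCompact_isClosed C hdir hne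
    (fun i => (hcl i).isCompact) hcl
  rw [Set.mem_iInter] at hf
  obtain ⟨σ, hσ⟩ := GaloisBasic.exists_ringEquiv_extend (K := K) f.toRingEquiv
  refine ⟨σ, fun a z hz => ?_, fun m z hm hz => ?_⟩
  · have hzK : z ∈ K := mem_algebraicClosure_iff.2 (isAlgebraic_of_pow_eq_one (pow_ne_zero _ two_ne_zero) hz)
    have h1 := (hf ⟨a, 1, odd_one⟩).1 ⟨z, hzK⟩ (Subtype.ext hz)
    have h2 := hσ ⟨z, hzK⟩
    have h3 : f.toRingEquiv ⟨z, hzK⟩ = ⟨z, hzK⟩ := h1
    rw [h3] at h2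
    exact h2
  · have hzK : z ∈ K := mem_algebraicClosure_iff.2 (isAlgebraic_of_pow_eq_one hm.pos.ne' hz)
    have h1 := (hf ⟨0, m, hm⟩).2 ⟨z, hzK⟩ (Subtype.ext hz)
    have h2 := hσ ⟨z, hzK⟩
    have h3 : f.toRingEquiv ⟨z, hzK⟩ = ⟨z, hzK⟩ ^ 2 := h1
    rw [h3] at h2
    exact h2


section

variable {G : Type u} [Group G]

/-- `σ` acts on the characters as the power map -/
theorem map_eq_pow [Finite G] {σ : ℂ ≃+* ℂ} (hσ : Sig σ) {k : ℕ} (hk₁ : ∀ g : G, (∃ j : ℕ, orderOf g = 2 ^ j) → g ^ k = g)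
    (hk₂ : ∀ g : G, Odd (orderOf g) → g ^ k = g ^ 2) {χ : G → ℂ} (hχ : IsCharacter G χ) (g : G) :
    σ (χ g) = χ (g ^ k) := by
  obtain ⟨a, b, hb, hab⟩ := Nat.exists_eq_two_pow_mul_odd (Nat.card_pos (α := G)).ne'
  obtain ⟨m, -, h1, h2⟩ := exists_exp a b hb
  have h3 := GaloisBasic.map_apply_card σ (m := m) (fun z hz => hσ.pow hb h1 h2 (hab ▸ hz)) hχ g
  rw [h3]
  congr 1
  obtain ⟨x, y, rfl, hxy, hx, hy⟩ := H618.Sigma.exists_decomp g
  rw [hxy.mul_pow, hxy.mul_pow, hk₁ x hx, hk₂ y hy]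
  have hc : Nat.Coprime (2 ^ a) b := (Nat.coprime_two_left.2 hb).pow_left a
  congr 1
  · obtain ⟨j, hj⟩ := hx
    have h4 : orderOf x ∣ 2 ^ a * b := hab ▸ orderOf_dvd_natCard x
    have h5 : (orderOf x).Coprime b := by
      rw [hj]
      exact (Nat.coprime_two_left.2 hb).pow_left j
    have h6 : x ^ 2 ^ a = 1 := orderOf_dvd_iff_pow_eq_one.1 (h5.dvd_of_dvd_mul_right h4)
    rw [pow_eq_pow_of_modEq h1 h6, pow_one]
  · have h4 : orderOf y ∣ 2 ^ a * b := hab ▸ orderOf_dvd_natCard y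
    have h5 : (orderOf y).Coprime (2 ^ a) := (Nat.coprime_two_right.2 hy).pow_right a
    have h6 : y ^ b = 1 := orderOf_dvd_iff_pow_eq_one.1 (h5.dvd_of_dvd_mul_left h4)
    exact pow_eq_pow_of_modEq h2 h6

/-- the exponent exists -/
theorem exists_k (G : Type u) [Group G] [Finite G] :
    ∃ k : ℕ, (∀ g : G, (∃ j : ℕ, orderOf g = 2 ^ j) → g ^ k = g) ∧ ∀ g : G, Odd (orderOf g) → g ^ k = g ^ 2 := by
  obtain ⟨a, b, hb, hab⟩ := Nat.exists_eq_two_pow_mul_odd (Nat.card_pos (α := G)).ne'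
  obtain ⟨m, -, h1, h2⟩ := exists_exp a b hb
  refine ⟨m, fun x hx => ?_, fun y hy => ?_⟩
  · obtain ⟨j, hj⟩ := hx
    have h4 : orderOf x ∣ 2 ^ a * b := hab ▸ orderOf_dvd_natCard x
    have h5 : (orderOf x).Coprime b := by
      rw [hj]
      exact (Nat.coprime_two_left.2 hb).pow_left j
    have h6 : x ^ 2 ^ a = 1 := orderOf_dvd_iff_pow_eq_one.1 (h5.dvd_of_dvd_mul_right h4)
    rw [pow_eq_pow_of_modEq h1 h6, pow_one]
  · have h4 : orderOf y ∣ 2 ^ a * b := hab ▸ orderOf_dvd_natCard y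
    have h5 : (orderOf y).Coprime (2 ^ a) := (Nat.coprime_two_right.2 hy).pow_right a
    have h6 : y ^ b = 1 := orderOf_dvd_iff_pow_eq_one.1 (h5.dvd_of_dvd_mul_left h4)
    exact pow_eq_pow_of_modEq h2 h6

theorem fix_iff_pow [Finite G] {σ : ℂ ≃+* ℂ} (hσ : Sig σ) {k : ℕ}
    (hk₁ : ∀ g : G, (∃ j : ℕ, orderOf g = 2 ^ j) → g ^ k = g) (hk₂ : ∀ g : G, Odd (orderOf g) → g ^ k = g ^ 2)
    {χ : G → ℂ} (hχ : IsCharacter G χ) : Fix σ χ ↔ ∀ g, χ (g ^ k) = χ g :=
  ⟨fun h g => by rw [← map_eq_pow hσ hk₁ hk₂ hχ, h g], fun h g => by rw [map_eq_pow hσ hk₁ hk₂ hχ, h g]⟩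

/-- the choice of `σ` does not matter -/
theorem fix_of_fix [Finite G] {σ τ : ℂ ≃+* ℂ} (hσ : Sig σ) (hτ : Sig τ) {χ : G → ℂ} (hχ : IsCharacter G χ)
    (h : Fix σ χ) : Fix τ χ := by
  obtain ⟨k, h1, h2⟩ := exists_k G
  exact (fix_iff_pow hτ h1 h2 hχ).2 ((fix_iff_pow hσ h1 h2 hχ).1 h)

/-- on the elements of odd order `σ` is the squaring -/
theorem map_odd [Finite G] {σ : ℂ ≃+* ℂ} (hσ : Sig σ) {χ : G → ℂ} (hχ : IsCharacter G χ) {g : G}
    (hg : Odd (orderOf g)) : σ (χ g) = χ (g ^ 2) := by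
  obtain ⟨k, h1, h2⟩ := exists_k G
  rw [map_eq_pow hσ h1 h2 hχ, h2 g hg]

/-- **the principal block and the centralizer of a Sylow 2-subgroup** -/
theorem inB0_iff [Finite G] (P : Sylow 2 G) {M : Ideal AlgInt} (hM : IsPModular 2 M) {χ : G → ℂ} (hχ : OddIrr χ) :
    InB0 χ ↔ ∀ y ∈ centralizer ((P : Subgroup G) : Set G), Odd (orderOf y) → MemLocalIdeal M (χ y - χ 1) := by
  have := fact2
  constructor
  · intro h y hy _
    exact (H700.PrinCrit.mem_principalBlock_iff hM P.isPGroup' P.not_dvd_index ⟨χ, hχ.1⟩ hχ.2).1 (h M hM hχ.1) y hy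
  · intro h
    exact H740.K4.inB0_of_mem hM (χ := ⟨χ, hχ.1⟩)
      (H700.PRatExt.mem_principalBlock_of_pregular hM P.isPGroup' ⟨χ, hχ.1⟩ hχ.2 fun x hx hx2 => h x hx (odd_iff'.2 hx2))

theorem eq_one_of_odd_of_mem {P : Subgroup G} (hP : IsPGroup 2 P) {y : G} (hy : y ∈ P) (ho : Odd (orderOf y)) :
    y = 1 := by
  have := fact2
  obtain ⟨k, hk⟩ := hP ⟨y, hy⟩
  have h1 : y ^ 2 ^ k = 1 := congrArg Subtype.val hk
  have h2 : orderOf y ∣ 2 ^ k := orderOf_dvd_of_pow_eq_one h1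
  have h3 : (orderOf y).Coprime (2 ^ k) := (Nat.coprime_two_right.2 ho).pow_right k
  exact orderOf_eq_one_iff.1 (h3.eq_one_of_dvd h2)

/-- if `C_G(P)` has no elements of odd order, all characters of odd degree are in the principal block -/
theorem inB0_of_cent [Finite G] (P : Sylow 2 G)
    (hC : ∀ y ∈ centralizer ((P : Subgroup G) : Set G), Odd (orderOf y) → y = 1) {χ : G → ℂ} (hχ : OddIrr χ) :
    InB0 χ := by
  obtain ⟨M, hM⟩ := Cfsg.Agent.Blocks.ExistsModular.exists_isPModular Nat.prime_two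
  have := isPrime_of_isPModular hM
  refine (inB0_iff P hM hχ).2 fun y hy ho => ?_
  rw [hC y hy ho, sub_self]
  exact memLocalIdeal_zero

theorem inB0_of_le [Finite G] (P : Sylow 2 G) (hC : centralizer ((P : Subgroup G) : Set G) ≤ P) {χ : G → ℂ}
    (hχ : OddIrr χ) : InB0 χ :=
  inB0_of_cent P (fun _ hy ho => eq_one_of_odd_of_mem P.isPGroup' (hC hy) ho) hχ

theorem dg_of_self (P : Sylow 2 G) (h : normalizer ((P : Subgroup G) : Set G) ≤ P) : DG P := by
  intro y hy ho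
  rw [eq_one_of_odd_of_mem P.isPGroup' (h hy) ho]
  exact one_mem _

theorem orderOf_conj' (g y : G) : orderOf (g * y * g⁻¹) = orderOf y :=
  orderOf_injective (MulAut.conj g).toMonoidHom (MulAut.conj g).injective y

/-- `DG` does not depend on the Sylow subgroup -/
theorem DG.sylow [Finite G] {P : Sylow 2 G} (h : DG P) (Q : Sylow 2 G) : DG Q := by
  have := fact2
  obtain ⟨g, rfl⟩ := MulAction.exists_smul_eq G P Q
  have hmem : ∀ x, x ∈ ((g • P : Sylow 2 G) : Subgroup G) ↔ g⁻¹ * x * g ∈ (P : Subgroup G) := by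
    intro x
    rw [Sylow.coe_subgroup_smul, Subgroup.mem_pointwise_smul_iff_inv_smul_mem, ← map_inv, MulAut.smul_def,
      MulAut.conj_apply, inv_inv]
  intro y hy ho
  have h1 : g⁻¹ * y * g ∈ normalizer ((P : Subgroup G) : Set G) := by
    rw [mem_normalizer_iff]
    intro x
    have h2 := mem_normalizer_iff.1 hy (g * x * g⁻¹)
    rw [hmem, hmem] at h2
    rw [show g⁻¹ * (g * x * g⁻¹) * g = x by group] at h2
    rw [h2, show g⁻¹ * (y * (g * x * g⁻¹) * y⁻¹) * g = g⁻¹ * y * g * x * (g⁻¹ * y * g)⁻¹ by group]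
  have h2 : Odd (orderOf (g⁻¹ * y * g)) := by
    have h3 := orderOf_conj' g⁻¹ y
    rw [inv_inv] at h3
    rwa [h3]
  have h3 := h _ h1 h2
  rw [mem_centralizer_iff] at h3 ⊢
  intro x hx
  have h4 := h3 _ ((hmem x).1 hx)
  have h5 : x * y = g * (g⁻¹ * x * g * (g⁻¹ * y * g)) * g⁻¹ := by group
  rw [h5, h4]
  group

end

section

variable {S : Type u} [Group S]

/-- `D(S)` implies `D(X)` -/
theorem DG.dd [Finite S] {Q : Sylow 2 S} (h : DG Q) {R : Subgroup (MulAut S)} (hR : Frame Q R) : DD Q R := by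
  intro y ho hy r hr
  have h1 : y⁻¹ ∈ normalizer ((Q : Subgroup S) : Set S) := by
    refine mem_normalizer_fintype fun q hq => ?_
    have h2 := hy _ (hR.inn q hq)
    rw [MulAut.conj_apply] at h2
    have h3 := (Q : Subgroup S).mul_mem h2 hq
    rw [inv_inv]
    rw [show y⁻¹ * (q * y * q⁻¹) * q = y⁻¹ * q * y by group] at h3
    exact h3
  have h2 := h y (by simpa using inv_mem h1) ho
  have h3 : Commute y⁻¹ (r y) := by
    have h4 := mem_centralizer_iff.1 h2 _ (hy r hr)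
    have h5 : r y * y = y * r y := by
      have h6 : r y * y = y * (y⁻¹ * r y * y) := by group
      rw [h6, h4]
      group
    exact (Commute.symm h5).inv_left
  have h4 : Odd (orderOf (y⁻¹ * r y)) := by
    refine Odd.of_dvd_nat ?_ h3.orderOf_mul_dvd_mul_orderOf
    rw [orderOf_inv, MulEquiv.orderOf_eq]
    exact ho.mul ho
  have h5 := eq_one_of_odd_of_mem Q.isPGroup' (hy r hr) h4
  exact (inv_mul_eq_one.1 h5).symm

theorem FG.ff (h : FG S) (R : Subgroup (MulAut S)) : FF R := fun θ h1 h2 _ => h θ h1 h2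

/-- **the generic row** -/
theorem box_of_dg [Finite S] (Q : Sylow 2 S) (hD : DG Q) (hF : FG S) : Box S :=
  fun Q' R hR => ⟨fun _ => hF.ff R, fun _ => (hD.sylow Q').dd hR⟩

theorem fg_of_oddSig (h : OddSig S) : FG S := fun χ h1 _ => h χ h1.1 (odd_iff'.2 h1.2)

/-- self-normalizing Sylow 2-subgroups -/
theorem box_of_self [Finite S] (Q : Sylow 2 S) (hN : normalizer ((Q : Subgroup S) : Set S) ≤ Q) (hF : OddSig S) :
    Box S :=
  box_of_dg Q (dg_of_self Q hN) (fg_of_oddSig hF)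

/-- inner automorphisms -/
def Inner (r : MulAut S) : Prop := ∃ s : S, r = MulAut.conj s

/-- the inner automorphisms in `R` come from `Q` -/
theorem Frame.mem [Finite S] {Q : Sylow 2 S} {R : Subgroup (MulAut S)} (hR : Frame Q R) (hZ : center S = ⊥) {s : S}
    (hs : MulAut.conj s ∈ R) : s ∈ (Q : Subgroup S) := by
  have := fact2
  have hinj : Function.Injective (MulAut.conj : S →* MulAut S) := by
    rw [injective_iff_map_eq_one]
    intro z hz
    have h1 : z ∈ center S := by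
      rw [mem_center_iff]
      intro g
      have h2 : MulAut.conj z g = g := by rw [hz]; rfl
      rw [MulAut.conj_apply] at h2
      exact (mul_inv_eq_iff_eq_mul.1 h2).symm
    rwa [hZ, mem_bot] at h1
  have h1 : IsPGroup 2 (R.comap (MulAut.conj : S →* MulAut S)) := hR.two.comap_of_injective _ hinj
  have h2 := Q.is_maximal' h1 (fun q hq => hR.inn q hq)
  rw [← h2]
  exact hs

/-- `R` normalizes `Q` -/
theorem Frame.map_mem [Finite S] {Q : Sylow 2 S} {R : Subgroup (MulAut S)} (hR : Frame Q R) (hZ : center S = ⊥)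
    {r : MulAut S} (hr : r ∈ R) {q : S} (hq : q ∈ (Q : Subgroup S)) : r q ∈ (Q : Subgroup S) := by
  refine hR.mem hZ ?_
  have h1 : MulAut.conj (r q) = r * MulAut.conj q * r⁻¹ := by
    ext x
    simp
  rw [h1]
  exact R.mul_mem (R.mul_mem hr (hR.inn q hq)) (R.inv_mem hr)

theorem Frame.dd_iff [Finite S] {Q : Sylow 2 S} {R : Subgroup (MulAut S)} (hR : Frame Q R) (hZ : center S = ⊥)
    (hin : ∀ r ∈ R, Inner r) : DD Q R ↔ DG Q := by
  refine ⟨fun h y hy ho => ?_, fun h => h.dd hR⟩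
  have h1 := h y ho (by
    intro r hr
    obtain ⟨s, rfl⟩ := hin r hr
    have hs := hR.mem hZ hr
    have h2 := (mem_normalizer_iff.1 (inv_mem hy) s).1 hs
    rw [inv_inv] at h2
    rw [MulAut.conj_apply, show y⁻¹ * (s * y * s⁻¹) = y⁻¹ * s * y * s⁻¹ by group]
    exact (Q : Subgroup S).mul_mem h2 ((Q : Subgroup S).inv_mem hs))
  rw [mem_centralizer_iff]
  intro q hq
  have h2 := h1 _ (hR.inn q hq)
  rw [MulAut.conj_apply] at h2
  exact mul_inv_eq_iff_eq_mul.1 h2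

theorem ff_iff_of_inner {R : Subgroup (MulAut S)} (hin : ∀ r ∈ R, Inner r) : FF R ↔ FG S := by
  refine ⟨fun h θ h1 h2 => h θ h1 h2 fun r hr s => ?_, fun h => h.ff R⟩
  obtain ⟨t, rfl⟩ := hin r hr
  exact isIrr_isClassFunction h1.1 s t

/-- the inner case and the other cases -/
theorem box_of_cases [Finite S] (hZ : center S = ⊥) (Q₀ : Sylow 2 S) (h₀ : DG Q₀ ↔ FG S)
    (h₁ : ∀ (Q : Sylow 2 S) (R : Subgroup (MulAut S)), Frame Q R → (∃ r ∈ R, ¬ Inner r) → (DD Q R ↔ FF R)) :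
    Box S := by
  intro Q R hR
  by_cases hin : ∀ r ∈ R, Inner r
  · rw [hR.dd_iff hZ hin, ff_iff_of_inner hin, ← h₀]
    exact ⟨fun h => h.sylow Q₀, fun h => h.sylow Q⟩
  · push Not at hin
    exact h₁ Q R hR hin

/-- all automorphisms of `2`-power order are inner -/
theorem box_of_inner [Finite S] (hZ : center S = ⊥) (hin : ∀ r : MulAut S, (∃ k : ℕ, r ^ 2 ^ k = 1) → Inner r)
    (Q₀ : Sylow 2 S) (h₀ : DG Q₀ ↔ FG S) : Box S := by
  refine box_of_cases hZ Q₀ h₀ fun Q R hR h => ?_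
  obtain ⟨r, hr, hr'⟩ := h
  obtain ⟨k, hk⟩ := hR.two ⟨r, hr⟩
  exact absurd (hin r ⟨k, congrArg Subtype.val hk⟩) hr'

/-- outer automorphism group of order two -/
theorem ff_of_aut (h2 : ∀ r r' : MulAut S, ¬ Inner r → ¬ Inner r' → Inner (r' * r⁻¹)) (hF : OddSigAut S)
    {R : Subgroup (MulAut S)} (h : ∃ r ∈ R, ¬ Inner r) : FF R := by
  obtain ⟨r, hr, hr'⟩ := h
  intro θ h1 _ h3
  refine hF θ h1.1 (odd_iff'.2 h1.2) fun α g => ?_
  by_cases hα : Inner α
  · obtain ⟨t, rfl⟩ := hα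
    exact isIrr_isClassFunction h1.1 g t
  · obtain ⟨t, ht⟩ := h2 r α hr' hα
    have h4 : α = MulAut.conj t * r := by rw [← ht]; group
    rw [h4, MulAut.mul_apply, MulAut.conj_apply, isIrr_isClassFunction h1.1 (r g) t]
    exact h3 r hr g

/-- a moved character -/
theorem not_fg_of_moved [Finite S] (Q : Sylow 2 S)
    (hC : ∀ y ∈ centralizer ((Q : Subgroup S) : Set S), Odd (orderOf y) → y = 1) (h : OddMoved S) : ¬ FG S := by
  obtain ⟨χ, h1, h2, h3⟩ := h
  obtain ⟨σ, hσ⟩ := exists_sig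
  intro hF
  have h4 : OddIrr χ := ⟨h1, odd_iff'.1 h2⟩
  exact h3 σ hσ (hF χ h4 (inB0_of_cent Q hC h4) σ hσ)

end

section congr

variable {S : Type u} [Group S] {T : Type v} [Group T]

theorem oddIrr_comp {f : S →* T} (hf : Function.Surjective f) {θ : T → ℂ} (h : OddIrr θ) :
    OddIrr (fun s => θ (f s)) :=
  ⟨isIrr_comp f hf h.1, by
    have h1 : charDegree (fun s => θ (f s)) = charDegree θ := by
      unfold charDegree
      simp only [map_one]
    rw [h1]
    exact h.2⟩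

theorem inB0_equiv [Finite S] [Finite T] (e : S ≃* T) {θ : T → ℂ} (h : OddIrr θ) (hb : InB0 θ) :
    InB0 (fun s => θ (e s)) := by
  have := fact2
  obtain ⟨M, hM⟩ := Cfsg.Agent.Blocks.ExistsModular.exists_isPModular Nat.prime_two
  let P : Sylow 2 S := default
  let P' : Sylow 2 T := P.mapSurjective (f := e.toMonoidHom) e.surjective
  refine (inB0_iff P hM (oddIrr_comp (f := e.toMonoidHom) e.surjective h)).2 fun y hy ho => ?_
  have h1 := (inB0_iff P' hM h).1 hb (e y) (by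
    rw [mem_centralizer_iff]
    rintro _ ⟨x, hx, rfl⟩
    show e x * e y = e y * e x
    rw [← map_mul, ← map_mul, mem_centralizer_iff.1 hy x hx]) (by rwa [MulEquiv.orderOf_eq])
  show MemLocalIdeal M (θ (e y) - θ (e 1))
  rwa [map_one]

/-- the box is invariant under isomorphisms -/
theorem Box.congr [Finite S] (e : S ≃* T) (h : Box T) : Box S := by
  have := fact2
  have : Finite T := Finite.of_equiv _ e.toEquiv
  intro Q R hR
  let φ : MulAut S ≃* MulAut T := MulAut.congr e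
  have hφ : ∀ (r : MulAut S) (s : S), φ r (e s) = e (r s) := fun r s => by simp [φ, MulAut.congr]
  let Q' : Sylow 2 T := Q.mapSurjective (f := e.toMonoidHom) e.surjective
  let R' : Subgroup (MulAut T) := R.map φ.toMonoidHom
  have hQ : ∀ s : S, e s ∈ (Q' : Subgroup T) ↔ s ∈ (Q : Subgroup S) := by
    intro s
    constructor
    · rintro ⟨x, hx, h1⟩
      rwa [← e.injective h1]
    · intro hs
      exact ⟨s, hs, rfl⟩
  have hR' : Frame Q' R' := by
    refine ⟨hR.two.map _, ?_⟩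
    rintro _ ⟨q, hq, rfl⟩
    refine ⟨MulAut.conj q, hR.inn q hq, ?_⟩
    ext t
    obtain ⟨s, rfl⟩ := e.surjective t
    show φ (MulAut.conj q) (e s) = _
    rw [hφ]
    simp
  have h1 : DD Q R ↔ DD Q' R' := by
    constructor
    · intro hD y ho hy
      obtain ⟨s, rfl⟩ := e.surjective y
      rintro _ ⟨r, hr, rfl⟩
      show φ r (e s) = _
      rw [hφ, hD s (by rwa [MulEquiv.orderOf_eq] at ho) (fun r hr => ?_) r hr]
      have h2 := hy (φ r) ⟨r, hr, rfl⟩
      rwa [hφ, ← map_inv, ← map_mul, hQ] at h2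
    · intro hD y ho hy r hr
      apply e.injective
      rw [← hφ]
      refine hD (e y) (by rwa [MulEquiv.orderOf_eq]) ?_ (φ r) ⟨r, hr, rfl⟩
      rintro _ ⟨r', hr', rfl⟩
      show (e y)⁻¹ * φ r' (e y) ∈ _
      rw [hφ, ← map_inv, ← map_mul, hQ]
      exact hy r' hr'
  have h2 : FF R ↔ FF R' := by
    constructor
    · intro hF θ h3 h4 h5 σ hσ t
      obtain ⟨s, rfl⟩ := e.surjective t
      refine hF (fun s => θ (e s)) (oddIrr_comp (f := e.toMonoidHom) e.surjective h3) (inB0_equiv e h3 h4)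
        (fun r hr s => ?_) σ hσ s
      show θ (e (r s)) = θ (e s)
      rw [← hφ]
      exact h5 (φ r) ⟨r, hr, rfl⟩ (e s)
    · intro hF θ h3 h4 h5 σ hσ s
      have h6 := hF (fun t => θ (e.symm t)) (oddIrr_comp (f := e.symm.toMonoidHom) e.symm.surjective h3)
        (inB0_equiv e.symm h3 h4) (by
          rintro _ ⟨r, hr, rfl⟩ t
          obtain ⟨s, rfl⟩ := e.surjective t
          show θ (e.symm (φ r (e s))) = θ (e.symm (e s))
          rw [hφ, e.symm_apply_apply, e.symm_apply_apply]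
          exact h5 r hr s) σ hσ (e s)
      simpa using h6
  rw [h1, h2]
  exact h Q' R' hR'

end congr

end Cfsg.Agent.GAL
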